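import Groth.Agent.Lib.LangMap13.Algebra
import Groth.Agent.Lib.SquareOpen.Chain
import Groth.Agent.Lib.Rigidity.PointsExt
import Groth.Agent.Lib.Euler.Rank
import Groth.Agent.Lib.GrpSchField.Points
import Groth.Prelude.Def_AGF
import Mathlib

/-!
# Fixed points on a quotient, by a twisted Lang theorem
-/

set_option autoImplicit false
set_option linter.all false

universe u

open AlgebraicGeometry CategoryTheory CategoryTheory.Limits TopologicalSpace
open MonoidalCategory CartesianMonoidalCategory MonObj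

noncomputable section

namespace GrothLib.FixQuot24

set_option backward.isDefEq.respectTransparency false

theorem locallyQuasiFinite_of_closedPoints {X Y : Scheme.{u}} (f : X ⟶ Y) [LocallyOfFiniteType f]
    [JacobsonSpace X] (hc : ∀ x ∈ closedPoints X, IsClosed ({f x} : Set Y))
    (h : ∀ x ∈ closedPoints X, (closedPoints X ∩ f ⁻¹' {f x}).Finite) : LocallyQuasiFinite f := by
  rw [← f.quasiFiniteLocus_eq_top_iff]
  suffices hsub : closedPoints X ⊆ f.quasiFiniteLocus by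
    by_contra hne
    have hcl : IsClosed ((f.quasiFiniteLocus : Set X)ᶜ) := f.quasiFiniteLocus.isOpen.isClosed_compl
    obtain ⟨z, hz, hzc⟩ := nonempty_inter_closedPoints
      (Z := (f.quasiFiniteLocus : Set X)ᶜ) (Set.nonempty_compl.2 fun hu => hne (Opens.ext hu)) hcl.isLocallyClosed
    exact hz (hsub hzc)
  intro x hx
  show f.QuasiFiniteAt x
  rw [Scheme.Hom.quasiFiniteAt_iff_isOpen_singleton_asFiber]
  have hF : IsClosed (f ⁻¹' {f x}) := (hc x hx).preimage f.continuous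
  let Q : Set X := closedPoints X ∩ f ⁻¹' {f x}
  have hQc : IsClosed Q := by
    rw [← Set.biUnion_of_singleton Q]
    exact (h x hx).isClosed_biUnion fun q hq => hq.1
  have hfib : f ⁻¹' {f x} ⊆ Q := by
    intro p hp
    by_contra hpQ
    obtain ⟨z, ⟨hz, hzQ⟩, hzc⟩ := nonempty_inter_closedPoints (Z := f ⁻¹' {f x} ∩ Qᶜ) ⟨p, hp, hpQ⟩
      (hF.isLocallyClosed.inter hQc.isOpen_compl.isLocallyClosed)
    exact hzQ ⟨hzc, hz⟩
  haveI : Finite (f ⁻¹' {f x}) := ((h x hx).subset hfib).to_subtype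
  haveI : T1Space (f ⁻¹' {f x}) := ⟨fun q => by
    have : ({q} : Set (f ⁻¹' {f x})) = Subtype.val ⁻¹' {q.1} := by
      ext r; simp [Subtype.ext_iff]
    rw [this]
    exact (hfib q.2).1.preimage continuous_subtype_val⟩
  rw [← (f.fiberHomeo (f x)).isOpen_image]
  exact isOpen_discrete _

variable {k : Type u} [Field k] [IsAlgClosed k]

theorem exists_gpt (X : Over (Spec (CommRingCat.of k))) [LocallyOfFiniteType X.hom] (x : X.left)
    (hx : x ∈ closedPoints X.left) : ∃ p : 𝟙_ (Over (Spec (CommRingCat.of k))) ⟶ X, Cube.ptOf p = x :=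
  Rigidity.exists_point_over X x hx

/-- An endomorphism with finitely many rational points in each fibre is dominant. -/
theorem denseRange_of_finite (H : Over (Spec (CommRingCat.of k))) [LocallyOfFiniteType H.hom] [IsAffine H.left]
    [IsIntegral H.left] (Φ : H ⟶ H)
    (hfin : ∀ y : 𝟙_ (Over (Spec (CommRingCat.of k))) ⟶ H, {h | h ≫ Φ = y}.Finite) :
    DenseRange Φ.left := by
  haveI : JacobsonSpace H.left := LocallyOfFiniteType.jacobsonSpace (Y := Spec _) H.hom
  haveI : LocallyOfFiniteType (Φ.left ≫ H.hom) := by rw [Over.w Φ]; infer_instance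
  haveI : LocallyOfFiniteType Φ.left := locallyOfFiniteType_of_comp Φ.left H.hom
  haveI hqf : LocallyQuasiFinite Φ.left := by
    refine locallyQuasiFinite_of_closedPoints Φ.left (fun x hx => ?_) (fun x hx => ?_)
    · obtain ⟨p, rfl⟩ := exists_gpt H x hx
      rw [Cube.apply_ptOf]
      exact Cube.isClosed_ptOf (p ≫ Φ)
    · obtain ⟨p, rfl⟩ := exists_gpt H x hx
      refine ((hfin (p ≫ Φ)).image Cube.ptOf).subset ?_
      rintro z ⟨hzc, hz⟩
      obtain ⟨r, rfl⟩ := exists_gpt H z hzc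
      refine ⟨r, Cube.eq_of_ptOf_eq ?_, rfl⟩
      rw [← Cube.apply_ptOf, ← Cube.apply_ptOf]
      exact hz
  let X := H.left
  let f := Φ.left
  letI : Algebra k Γ(X, ⊤) := ((Scheme.ΓSpecIso (CommRingCat.of k)).inv ≫ H.hom.appTop).hom.toAlgebra
  haveI : Algebra.FiniteType k Γ(X, ⊤) := by
    have h1 : H.hom.appTop.hom.FiniteType := by
      rw [Scheme.Hom.appTop, Scheme.Hom.app_eq_appLE]
      exact H.hom.finiteType_appLE (isAffineOpen_top _) (isAffineOpen_top _) _
    exact h1.comp (RingHom.FiniteType.of_surjective _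
      (ConcreteCategory.bijective_of_isIso (Scheme.ΓSpecIso (CommRingCat.of k)).inv).2)
  have hcomm : ∀ c : k, f.appTop.hom (algebraMap k Γ(X, ⊤) c) = algebraMap k Γ(X, ⊤) c := fun c => by
    show (H.hom.appTop ≫ f.appTop).hom ((Scheme.ΓSpecIso (CommRingCat.of k)).inv.hom c) = _
    rw [← Scheme.Hom.comp_appTop, show f ≫ H.hom = H.hom from Over.w Φ]
    rfl
  let φ : Γ(X, ⊤) →ₐ[k] Γ(X, ⊤) := { f.appTop.hom with commutes' := hcomm }
  have hspec : f = X.isoSpec.hom ≫ Spec.map f.appTop ≫ X.isoSpec.inv := by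
    rw [← Category.assoc, Iso.eq_comp_inv]
    exact (Scheme.isoSpec_hom_naturality f).symm
  haveI : QuasiCompact f := inferInstance
  have hinj : Function.Injective φ := LangMap13.injective_of_finite_fibres φ fun Q => by
    refine ((f.finite_preimage_singleton (X.isoSpec.inv Q)).image X.isoSpec.hom).subset fun x hx => ?_
    refine ⟨X.isoSpec.inv x, ?_, ?_⟩
    · show f (X.isoSpec.inv x) = X.isoSpec.inv Q
      rw [← Scheme.Hom.comp_apply, hspec, Iso.inv_hom_id_assoc, Scheme.Hom.comp_apply]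
      exact congrArg X.isoSpec.inv hx
    · rw [← Scheme.Hom.comp_apply, Iso.inv_hom_id]
      rfl
  have h1 : DenseRange (Spec.map f.appTop).base := by
    refine (PrimeSpectrum.denseRange_comap_iff_ker_le_nilRadical _).2 ?_
    rw [(RingHom.injective_iff_ker_eq_bot f.appTop.hom).1 hinj]
    exact bot_le
  show DenseRange f.base
  rw [hspec, Scheme.Hom.comp_base, Scheme.Hom.comp_base, TopCat.coe_comp, TopCat.coe_comp]
  refine (DenseRange.comp ?_ h1 X.isoSpec.inv.continuous).comp X.isoSpec.hom.surjective.denseRange ?_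
  · exact X.isoSpec.inv.surjective.denseRange
  · exact X.isoSpec.inv.continuous.comp (Spec.map f.appTop).continuous

theorem map_genericPoint_of_dense {X Y : Scheme.{u}} [IsIntegral X] [IsIntegral Y] (f : X ⟶ Y)
    (h : DenseRange f) : f (genericPoint X) = genericPoint Y := by
  have h2 := (genericPoint_spec X).image f.continuous
  rw [Set.image_univ, h.closure_range] at h2
  exact h2.eq (genericPoint_spec Y)

variable {H : Over (Spec (CommRingCat.of k))} [GrpObj H] (τ : H ⟶ H) [IsMonHom τ]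

/-- The twisted translation. -/
def twist (x : 𝟙_ (Over (Spec (CommRingCat.of k))) ⟶ H) : H ⟶ H := 𝟙 H * (toUnit H ≫ x) * τ⁻¹

omit [IsAlgClosed k] in
theorem comp_twist (x h : 𝟙_ (Over (Spec (CommRingCat.of k))) ⟶ H) :
    h ≫ twist τ x = h * x * (h ≫ τ)⁻¹ := by
  rw [twist, MonObj.comp_mul, MonObj.comp_mul, GrpObj.comp_inv, Category.comp_id, ← Category.assoc,
    toUnit_unique (h ≫ toUnit H) (𝟙 _), Category.id_comp]

/-- Twisted Lang: with finite stabilisers a point is a twisted commutator. -/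
theorem exists_twist_eq [Smooth H.hom] [ConnectedSpace ↥H.left] [IsAffine H.left]
    (x : 𝟙_ (Over (Spec (CommRingCat.of k))) ⟶ H)
    (h1 : {h : 𝟙_ (Over (Spec (CommRingCat.of k))) ⟶ H | h ≫ τ = h}.Finite)
    (hx : {h : 𝟙_ (Over (Spec (CommRingCat.of k))) ⟶ H | h * x * (h ≫ τ)⁻¹ = x}.Finite) :
    ∃ h : 𝟙_ (Over (Spec (CommRingCat.of k))) ⟶ H, h * (h ≫ τ)⁻¹ = x := by
  haveI : QuasiCompact H.hom := inferInstance
  haveI : IsIntegral H.left := Euler.isIntegral_of_smooth_connected k H.hom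
  have hfib : ∀ z : 𝟙_ (Over (Spec (CommRingCat.of k))) ⟶ H,
      {h : 𝟙_ (Over (Spec (CommRingCat.of k))) ⟶ H | h * z * (h ≫ τ)⁻¹ = z}.Finite →
      DenseRange (twist τ z).left := by
    intro z hz
    apply denseRange_of_finite
    intro y
    rcases Set.eq_empty_or_nonempty {h | h ≫ twist τ z = y} with he | ⟨h₀, hh₀⟩
    · rw [he]; exact Set.finite_empty
    refine (hz.image (fun s => h₀ * s)).subset fun h hh => ⟨h₀⁻¹ * h, ?_, mul_inv_cancel_left h₀ h⟩
    rw [Set.mem_setOf_eq, comp_twist] at hh hh₀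
    rw [Set.mem_setOf_eq, MonObj.mul_comp, GrpObj.inv_comp, mul_inv_rev, inv_inv]
    calc h₀⁻¹ * h * z * ((h ≫ τ)⁻¹ * (h₀ ≫ τ)) = h₀⁻¹ * (h * z * (h ≫ τ)⁻¹) * (h₀ ≫ τ) := by
          simp only [_root_.mul_assoc]
      _ = h₀⁻¹ * (h₀ * z * (h₀ ≫ τ)⁻¹) * (h₀ ≫ τ) := by rw [hh, hh₀]
      _ = z := by simp [_root_.mul_assoc]
  have hd1 := hfib 1 (h1.subset fun h hh => by
    have e : h * 1 * (h ≫ τ)⁻¹ = 1 := hh
    rw [_root_.mul_one, mul_inv_eq_one] at e
    exact e.symm)
  have hdx := hfib x hx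
  let P := pullback (twist τ 1).left (twist τ x).left
  obtain ⟨p, -, -⟩ := Scheme.Pullback.exists_preimage_pullback (f := (twist τ 1).left) (g := (twist τ x).left)
    (genericPoint H.left) (genericPoint H.left)
    ((map_genericPoint_of_dense _ hd1).trans (map_genericPoint_of_dense _ hdx).symm)
  let W : Over (Spec (CommRingCat.of k)) := Over.mk (pullback.fst (twist τ 1).left (twist τ x).left ≫ H.hom)
  haveI : LocallyOfFiniteType ((twist τ x).left ≫ H.hom) := by rw [Over.w]; infer_instance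
  haveI : LocallyOfFiniteType (twist τ x).left := locallyOfFiniteType_of_comp _ H.hom
  haveI : LocallyOfFiniteType W.hom :=
    inferInstanceAs (LocallyOfFiniteType (pullback.fst (twist τ 1).left (twist τ x).left ≫ H.hom))
  haveI : QuasiCompact (twist τ x).left := inferInstance
  haveI : QuasiCompact W.hom :=
    inferInstanceAs (QuasiCompact (pullback.fst (twist τ 1).left (twist τ x).left ≫ H.hom))
  haveI : CompactSpace W.left := QuasiCompact.compactSpace_of_compactSpace W.hom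
  obtain ⟨w, -, hw⟩ := IsClosed.exists_closed_singleton (S := (Set.univ : Set W.left)) isClosed_univ ⟨p, trivial⟩
  obtain ⟨z, -⟩ := exists_gpt W w hw
  let a : W ⟶ H := Over.homMk (pullback.fst _ _) rfl
  let b : W ⟶ H := Over.homMk (pullback.snd _ _) (by
    show pullback.snd (twist τ 1).left (twist τ x).left ≫ H.hom = pullback.fst _ _ ≫ H.hom
    conv_lhs => rw [← Over.w (twist τ x), ← Category.assoc, ← pullback.condition, Category.assoc, Over.w])
  have hab : (z ≫ a) ≫ twist τ 1 = (z ≫ b) ≫ twist τ x := by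
    rw [Category.assoc, Category.assoc]
    congr 1
    exact Over.OverMorphism.ext pullback.condition
  rw [comp_twist, comp_twist, _root_.mul_one] at hab
  set u := z ≫ a
  set v := z ≫ b
  refine ⟨v⁻¹ * u, ?_⟩
  rw [MonObj.mul_comp, GrpObj.inv_comp, mul_inv_rev, inv_inv]
  calc v⁻¹ * u * ((u ≫ τ)⁻¹ * (v ≫ τ)) = v⁻¹ * (u * (u ≫ τ)⁻¹) * (v ≫ τ) := by simp only [_root_.mul_assoc]
    _ = x := by rw [hab]; simp [_root_.mul_assoc]

/-- Counting fixed points. -/
theorem card_eq {G : Over (Spec (CommRingCat.of k))} [GrpObj G] [QuasiCompact G.hom] [LocallyOfFiniteType G.hom]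
    (i : H ⟶ G) [IsMonHom i] [IsClosedImmersion i.left] [Smooth H.hom] [ConnectedSpace ↥H.left] [IsAffine H.left]
    (X : Over (Spec (CommRingCat.of k))) (a : AlgGrp.Action G X) (o : 𝟙_ (Over (Spec (CommRingCat.of k))) ⟶ X)
    (hX : AGF.IsQuotient i X a o)
    (σ : G ⟶ G) [IsMonHom σ] (hτ : τ ≫ i = i ≫ σ) (φ : X ⟶ X) (hφ : a.orbitMap o ≫ φ = σ ≫ a.orbitMap o)
    (hfin : {g : 𝟙_ (Over (Spec (CommRingCat.of k))) ⟶ G | g ≫ σ = g}.Finite) :
    Nat.card {g : 𝟙_ (Over (Spec (CommRingCat.of k))) ⟶ G // g ≫ σ = g} =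
      Nat.card {h : 𝟙_ (Over (Spec (CommRingCat.of k))) ⟶ H // h ≫ τ = h} *
        Nat.card {x : 𝟙_ (Over (Spec (CommRingCat.of k))) ⟶ X // x ≫ φ = x} := by
  obtain ⟨hlft, -, hsurj, hpb⟩ := hX
  haveI := hlft
  haveI := hsurj
  haveI : Mono i := Over.mono_of_mono_left i
  let q : G ⟶ X := a.orbitMap o
  have hlift : ∀ x : 𝟙_ (Over (Spec (CommRingCat.of k))) ⟶ X, ∃ g, g ≫ q = x := fun x =>
    Cube.exists_point_over q x (Cube.isClosed_ptOf x) (q.left.surjective _)
  have htr : ∀ (g : 𝟙_ (Over (Spec (CommRingCat.of k))) ⟶ G) (h : 𝟙_ (Over (Spec (CommRingCat.of k))) ⟶ H),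
      (g * (h ≫ i)) ≫ q = g ≫ q := by
    intro g h
    have e := congrArg (lift g h ≫ ·) hpb.w
    simp only [lift_fst_assoc, Category.assoc] at e
    rw [lift_whiskerLeft_assoc, ← Category.assoc, ← Hom.mul_def] at e
    exact e.symm
  have hsame : ∀ g g' : 𝟙_ (Over (Spec (CommRingCat.of k))) ⟶ G, g ≫ q = g' ≫ q →
      ∃ h, g' = g * (h ≫ i) := by
    intro g g' e
    refine ⟨hpb.lift g g' e ≫ snd G H, ?_⟩
    have h1 := hpb.lift_fst g g' e
    have h2 := hpb.lift_snd g g' e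
    have h3 : hpb.lift g g' e = lift g (hpb.lift g g' e ≫ snd G H) := by
      apply CartesianMonoidalCategory.hom_ext
      · rw [lift_fst]; exact h1
      · rw [lift_snd]
    rw [h3, lift_whiskerLeft_assoc, ← Hom.mul_def] at h2
    exact h2.symm
  have hσi : ∀ h : 𝟙_ (Over (Spec (CommRingCat.of k))) ⟶ H, (h ≫ i) ≫ σ = (h ≫ τ) ≫ i := fun h => by
    rw [Category.assoc, Category.assoc, hτ]
  have h1 : {h : 𝟙_ (Over (Spec (CommRingCat.of k))) ⟶ H | h ≫ τ = h}.Finite :=
    (hfin.preimage (f := fun h => h ≫ i) fun _ _ _ _ e => (cancel_mono i).1 e).subset fun h hh => by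
      show (h ≫ i) ≫ σ = h ≫ i
      rw [hσi, hh]
  have hfix : ∀ x : {x : 𝟙_ (Over (Spec (CommRingCat.of k))) ⟶ X // x ≫ φ = x},
      ∃ g : {g : 𝟙_ (Over (Spec (CommRingCat.of k))) ⟶ G // g ≫ σ = g}, g.1 ≫ q = x.1 := by
    rintro ⟨x, hxφ⟩
    obtain ⟨g, hg⟩ := hlift x
    obtain ⟨h₀, hh₀⟩ := hsame g (g ≫ σ) (by
      rw [Category.assoc, ← hφ, ← Category.assoc]
      show g ≫ q = (g ≫ q) ≫ φ
      rw [hg, hxφ])
    have hx : {h : 𝟙_ (Over (Spec (CommRingCat.of k))) ⟶ H | h * h₀ * (h ≫ τ)⁻¹ = h₀}.Finite := by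
      refine (hfin.preimage (f := fun h => g * (h ≫ i) * g⁻¹) fun a _ b _ e => ?_).subset fun h hh => ?_
      · exact (cancel_mono i).1 (mul_left_cancel (mul_right_cancel e))
      · show (g * (h ≫ i) * g⁻¹) ≫ σ = g * (h ≫ i) * g⁻¹
        have hh' : h = h₀ * (h ≫ τ) * h₀⁻¹ := by
          rw [eq_mul_inv_iff_mul_eq]
          exact mul_inv_eq_iff_eq_mul.1 hh
        conv_rhs => rw [hh', MonObj.mul_comp, MonObj.mul_comp, GrpObj.inv_comp]
        rw [MonObj.mul_comp, MonObj.mul_comp, GrpObj.inv_comp, hσi, hh₀, mul_inv_rev]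
        simp only [_root_.mul_assoc]
    obtain ⟨h, hh⟩ := exists_twist_eq τ h₀ h1 hx
    refine ⟨⟨g * (h ≫ i), ?_⟩, (htr g h).trans hg⟩
    rw [MonObj.mul_comp, hσi, hh₀, _root_.mul_assoc, ← MonObj.mul_comp, ← hh, inv_mul_cancel_right]
  choose s hs using hfix
  let F : {h : 𝟙_ (Over (Spec (CommRingCat.of k))) ⟶ H // h ≫ τ = h} ×
      {x : 𝟙_ (Over (Spec (CommRingCat.of k))) ⟶ X // x ≫ φ = x} →
      {g : 𝟙_ (Over (Spec (CommRingCat.of k))) ⟶ G // g ≫ σ = g} :=
    fun p => ⟨(s p.2).1 * (p.1.1 ≫ i), by rw [MonObj.mul_comp, (s p.2).2, hσi, p.1.2]⟩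
  have hFinj : Function.Injective F := by
    rintro ⟨h, x⟩ ⟨h', x'⟩ e
    have e1 : (s x).1 * (h.1 ≫ i) = (s x').1 * (h'.1 ≫ i) := congrArg Subtype.val e
    have e2 := congrArg (· ≫ q) e1
    simp only [htr, hs] at e2
    obtain rfl : x = x' := Subtype.ext e2
    obtain rfl : h = h' := Subtype.ext ((cancel_mono i).1 (mul_left_cancel e1))
    rfl
  have hFsurj : Function.Surjective F := by
    intro g
    let x : {x : 𝟙_ (Over (Spec (CommRingCat.of k))) ⟶ X // x ≫ φ = x} := ⟨g.1 ≫ q, by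
      rw [Category.assoc]
      show g.1 ≫ q ≫ φ = g.1 ≫ q
      rw [show q ≫ φ = σ ≫ q from hφ, ← Category.assoc, g.2]⟩
    obtain ⟨h, hh⟩ := hsame (s x).1 g.1 (hs x)
    refine ⟨⟨⟨h, ?_⟩, x⟩, Subtype.ext hh.symm⟩
    have e := g.2
    rw [hh, MonObj.mul_comp, (s x).2, hσi] at e
    exact (cancel_mono i).1 (mul_left_cancel e)
  rw [← Nat.card_prod]
  exact (Nat.card_congr (Equiv.ofBijective F ⟨hFinj, hFsurj⟩)).symm

end GrothLib.FixQuot24
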